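import Mathlib

/-!
Descending the Grothendieck axioms along a faithful exact left adjoint.
-/

set_option autoImplicit false
universe w u₁ u₂

open CategoryTheory CategoryTheory.Limits

noncomputable section

namespace Groth.Agent.ComonadicAB5

attribute [local instance] IsFiltered.isConnected

variable {A : Type u₁} [Category.{w} A] [Abelian A] [HasColimitsOfSize.{w, w} A]
  {B : Type u₂} [Category.{w} B] [Abelian B] [IsGrothendieckAbelian.{w} B]
  (F : A ⥤ B) (G : B ⥤ A) (adj : F ⊣ G) [F.Additive] [F.Faithful]
  [PreservesFiniteLimits F] [PreservesFiniteColimits F]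

include adj in
theorem ab5 : AB5OfSize.{w, w} A := by
  haveI : F.IsLeftAdjoint := adj.isLeftAdjoint
  haveI : F.ReflectsIsomorphisms := inferInstance
  refine ⟨fun J _ _ => ⟨⟨fun K _ _ => ?_⟩⟩⟩
  haveI : ReflectsLimitsOfShape K F := reflectsLimitsOfShape_of_reflectsIsomorphisms
  haveI : PreservesColimitsOfSize.{w, w} F := inferInstance
  haveI : PreservesLimitsOfShape K ((Functor.whiskeringRight J A B).obj F ⋙ colim) := inferInstance
  haveI : PreservesLimitsOfShape K ((colim : (J ⥤ A) ⥤ A) ⋙ F) :=
    preservesLimitsOfShape_of_natIso (preservesColimitNatIso F).symm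
  exact preservesLimitsOfShape_of_reflects_of_preserves colim F

include adj in
theorem mono_unit (X : A) : Mono (adj.unit.app X) :=
  F.mono_of_mono_map (by
    haveI : IsSplitMono (F.map (adj.unit.app X)) :=
      ⟨⟨⟨adj.counit.app _, adj.left_triangle_components X⟩⟩⟩
    infer_instance)

omit [HasColimitsOfSize.{w, w} A] [PreservesFiniteColimits F] in
theorem small_subobject (F : A ⥤ B) [F.Additive] [F.Faithful] [PreservesFiniteLimits F] (X : A) : Small.{w} (Subobject X) := by
  refine small_of_injective (f := fun S : Subobject X => Subobject.mk (F.map S.arrow)) ?_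
  have key : ∀ S T : Subobject X,
      Subobject.mk (F.map S.arrow) ≤ Subobject.mk (F.map T.arrow) → S ≤ T := by
    intro S T h
    have h0 : S.arrow ≫ cokernel.π T.arrow = 0 := F.map_injective (by
      rw [F.map_comp, F.map_zero, ← Subobject.ofMkLEMk_comp h, Category.assoc, ← F.map_comp,
        cokernel.condition, F.map_zero, comp_zero])
    exact Subobject.le_of_comm (Abelian.monoLift T.arrow S.arrow h0) (Abelian.monoLift_comp _ _ _)
  exact fun S T h => le_antisymm (key S T h.le) (key T S h.ge)

variable [PreservesFilteredColimitsOfSize.{w, w} G]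

omit [IsGrothendieckAbelian.{w} B] [PreservesFiniteLimits F] [PreservesFiniteColimits F] [F.Faithful]
  [F.Additive] [PreservesFilteredColimitsOfSize.{w, w} G] in
/-- A family detecting zero morphisms gives a separator. -/
theorem hasSeparator_of_family {I : Type w} (gen : I → A)
    (H : ∀ (X Y : A) (h : X ⟶ Y), (∀ (i : I) (p : gen i ⟶ X), p ≫ h = 0) → h = 0) :
    HasSeparator A := by
  classical
  refine ⟨∐ gen, (isSeparator_def _).2 fun X Y f g hfg => sub_eq_zero.1 (H X Y _ fun i p => ?_)⟩
  let q : ∐ gen ⟶ X := Sigma.desc fun k => if e : k = i then eqToHom (by rw [e]) ≫ p else 0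
  have hq : Sigma.ι gen i ≫ q = p := by
    rw [Sigma.ι_desc, dif_pos rfl, eqToHom_refl]
    exact Category.id_comp p
  rw [← hq, Category.assoc, Preadditive.comp_sub, hfg q, sub_self, comp_zero]

set_option maxHeartbeats 1000000 in
include adj in
theorem hasSeparator : HasSeparator A := by
  classical
  haveI := ab5 F G adj
  haveI : ∀ X : A, Small.{w} (Subobject X) := fun X => small_subobject F X
  haveI : HasCoproducts.{w} B := fun J => inferInstance
  let U : B := separator B
  let Idx := Σ n : ℕ, Σ Q : Subobject (∐ fun _ : Fin n => U), Subobject (G.obj (cokernel Q.arrow))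
  haveI : Small.{w} Idx := inferInstance
  refine hasSeparator_of_family
    (fun i : Shrink.{w} Idx => Subobject.underlying.obj ((equivShrink Idx).symm i).2.2) ?_
  intro X Y h hgen'
  have hgen : ∀ (i : Idx) (p : Subobject.underlying.obj i.2.2 ⟶ X), p ≫ h = 0 := by
    intro i
    obtain ⟨j, rfl⟩ := (equivShrink Idx).symm.surjective i
    exact hgen' j
  -- the finitely generated subobjects of `F X`
  let n : Finset (U ⟶ F.obj X) → ℕ := fun s => s.card
  let φ : ∀ s : Finset (U ⟶ F.obj X), (∐ fun _ : Fin (n s) => U) ⟶ F.obj X :=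
    fun s => Sigma.desc fun k => (s.equivFin.symm k).1
  have hmem : ∀ (s : Finset (U ⟶ F.obj X)) (a : U ⟶ F.obj X), a ∈ s →
      (imageSubobject (φ s)).Factors a := fun s a ha => by
    have e : Sigma.ι (fun _ : Fin (n s) => U) (s.equivFin ⟨a, ha⟩) ≫ φ s = a := by simp [φ]
    rw [← e]
    exact imageSubobject_factors_comp_self _ _
  have hmono : Monotone fun s => imageSubobject (φ s) := fun s t hst => by
    refine imageSubobject_le _ (Sigma.desc fun k =>
      (imageSubobject (φ t)).factorThru _ (hmem t _ (hst (s.equivFin.symm k).2))) ?_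
    ext k
    simp [φ]
  let M : Finset (U ⟶ F.obj X) ⥤ MonoOver (F.obj X) := hmono.functor ⋙ Subobject.representative
  let D := M ⋙ MonoOver.forget _ ⋙ Over.forget _
  let δ : D ⟶ (Functor.const _).obj (F.obj X) :=
    { app := fun s => (M.obj s).obj.hom
      naturality := fun s t a => (Over.w (M.map a).hom).trans (Category.comp_id _).symm }
  let c : Cocone D := ⟨F.obj X, δ⟩
  let u := colimit.desc D c
  haveI : Mono u :=
    IsGrothendieckAbelian.mono_of_isColimit_monoOver M (colimit.isColimit D) u (colimit.ι_desc c)
  haveI : Epi u := by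
    refine Preadditive.epi_of_cancel_zero _ fun {Z} k hk => ?_
    refine (isSeparator_def U).1 (isSeparator_separator B) _ _ fun a => ?_
    have h1 : (imageSubobject (φ {a})).arrow ≫ k = 0 := by
      have := colimit.ι D {a} ≫= hk
      rw [colimit.ι_desc_assoc, comp_zero] at this
      exact this
    rw [← Subobject.factorThru_arrow _ _ (hmem {a} a (Finset.mem_singleton_self a)), Category.assoc,
      h1, comp_zero, comp_zero]
  haveI : IsIso u := isIso_of_mono_of_epi u
  haveI : IsIso ((colimit.isColimit D).desc c) := inferInstanceAs (IsIso u)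
  have hc : IsColimit c := IsColimit.ofPointIso (colimit.isColimit D)
  have hGc : IsColimit (G.mapCocone c) := isColimitOfPreserves G hc
  -- pull back along the unit
  let β : D ⋙ G ⟶ (Functor.const _).obj (G.obj (F.obj X)) :=
    { app := fun s => G.map (δ.app s)
      naturality := fun s t a => by
        simp only [Functor.comp_map, ← G.map_comp, Functor.const_obj_map]
        exact (congrArg G.map (c.w a)).trans (Category.comp_id _).symm }
  haveI : IsIso (colim.map β) := by
    let e := (colimit.isColimit _).coconePointUniqueUpToIso hGc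
    let e' := (colimit.isColimit _).coconePointUniqueUpToIso
      (isColimitConstCocone (Finset (U ⟶ F.obj X)) (G.obj (F.obj X)))
    have he : colim.map β ≫ e'.hom = e.hom := by
      refine colimit.hom_ext fun s => ?_
      refine (ι_colimMap_assoc β s e'.hom).trans ?_
      erw [IsColimit.comp_coconePointUniqueUpToIso_hom, IsColimit.comp_coconePointUniqueUpToIso_hom]
      exact Category.comp_id _
    rw [(Iso.eq_comp_inv e').2 he]
    exact (e ≪≫ e'.symm).isIso_hom
  let α : (Functor.const (Finset (U ⟶ F.obj X))).obj X ⟶ (Functor.const _).obj (G.obj (F.obj X)) :=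
    (Functor.const _).map (adj.unit.app X)
  haveI := mono_unit F G adj X
  haveI : ∀ s, Mono (α.app s) := fun _ => inferInstanceAs (Mono (adj.unit.app X))
  haveI : Mono α := NatTrans.mono_of_mono_app α
  haveI : IsIso (colim.map (pullback.fst α β)) :=
    ((IsPullback.of_hasPullback α β).map colim).isIso_fst_of_isIso
  let k := colimit.desc _ (⟨Y, { app := fun _ => h }⟩ : Cocone ((Functor.const (Finset (U ⟶ F.obj X))).obj X))
  have hk : colim.map (pullback.fst α β) ≫ k = 0 := by
    refine colimit.hom_ext fun s => ?_
    refine (ι_colimMap_assoc (pullback.fst α β) s k).trans ?_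
    rw [colimit.ι_desc, comp_zero]
    show (pullback.fst α β).app s ≫ h = 0
    let Q : Subobject (∐ fun _ : Fin (n s) => U) := Subobject.mk (kernel.ι (φ s))
    let ψ : D.obj s ≅ cokernel Q.arrow :=
      imageSubobjectIso (φ s) ≪≫ (Abelian.imageIsoImage (φ s)).symm ≪≫
        (Abelian.coimageIsoImage (φ s)).symm ≪≫
        (cokernelEpiComp (Subobject.underlyingIso (kernel.ι (φ s))).hom (kernel.ι (φ s))).symm ≪≫
        cokernelIsoOfEq (Subobject.underlyingIso_hom_comp_eq_mk _)
    haveI : Mono ((pullback.snd α β).app s) := inferInstance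
    let m : (pullback α β).obj s ⟶ G.obj (cokernel Q.arrow) :=
      (pullback.snd α β).app s ≫ (G.mapIso ψ).hom
    haveI : Mono m := mono_comp _ _
    have := hgen ⟨n s, Q, Subobject.mk m⟩ ((Subobject.underlyingIso m).hom ≫ (pullback.fst α β).app s)
    rw [Category.assoc] at this
    exact (cancel_epi (Subobject.underlyingIso m).hom).1 (this.trans comp_zero.symm)
  have hk0 : k = 0 := (cancel_epi _).1 (hk.trans comp_zero.symm)
  have := colimit.ι_desc (⟨Y, { app := fun _ => h }⟩ : Cocone ((Functor.const (Finset (U ⟶ F.obj X))).obj X)) ∅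
  rw [show colimit.desc _ _ = k from rfl, hk0, comp_zero] at this
  exact this.symm

include adj in
theorem isGrothendieckAbelian : IsGrothendieckAbelian.{w} A where
  ab5OfSize := ab5 F G adj
  hasSeparator := hasSeparator F G adj

end Groth.Agent.ComonadicAB5
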